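import Mathlib

/-! Hermite normal forms over `k⟦t⟧`. -/

set_option autoImplicit false
set_option maxHeartbeats 800000
set_option backward.isDefEq.respectTransparency false
universe u

namespace Groth.Agent.HermiteLib

open PowerSeries Matrix

variable {k : Type u} [Field k]


theorem exists_upperTriangular : ∀ (r : ℕ) (M : Matrix (Fin r) (Fin r) (PowerSeries k)), M.det ≠ 0 →
    ∃ (N : Matrix (Fin r) (Fin r) (PowerSeries k)) (e : Fin r → ℕ), IsUnit N.det ∧
      (∀ i, (N * M) i i = X ^ e i) ∧ (∀ i j, j < i → (N * M) i j = 0) := by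
  intro r
  induction r with
  | zero => exact fun M _ => ⟨1, Fin.elim0, by simp, fun i => i.elim0, fun i => i.elim0⟩
  | succ r ih =>
    intro M hM
    classical
    obtain ⟨i1, hi1⟩ : ∃ i, M i 0 ≠ 0 := by
      by_contra h
      push Not at h
      exact hM (Matrix.det_eq_zero_of_column_eq_zero 0 h)
    let S := Finset.univ.filter fun i => M i 0 ≠ 0
    obtain ⟨i0, hi0, hmin⟩ := S.exists_min_image (fun i => ((M i 0).order).toNat) ⟨i1, by simp [S, hi1]⟩
    have hne : M i0 0 ≠ 0 := (Finset.mem_filter.1 hi0).2
    set e0 := ((M i0 0).order).toNat with he0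
    have hdvd : ∀ i, (X : (PowerSeries k)) ^ e0 ∣ M i 0 := fun i => by
      by_cases h : M i 0 = 0
      · simp [h]
      · exact dvd_trans (pow_dvd_pow _ (hmin i (by simp [S, h]))) (PowerSeries.X_pow_order_dvd)
    choose q hq using hdvd
    have hu : IsUnit (q i0) := by
      have h1 : X ^ e0 * q i0 = X ^ e0 * divXPowOrder (M i0 0) := by
        rw [← hq i0]; exact (X_pow_order_mul_divXPowOrder).symm
      rw [mul_left_cancel₀ (pow_ne_zero _ X_ne_zero) h1]
      exact PowerSeries.isUnit_divided_by_X_pow_order hne
    obtain ⟨u, hu'⟩ := hu.exists_left_inv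
    let σ := Equiv.swap (0 : Fin (r + 1)) i0
    let A : Matrix (Fin (r + 1)) (Fin (r + 1)) (PowerSeries k) := Matrix.of fun i l =>
      Fin.cases (if l = 0 then u else 0)
        (fun i' => if l = 0 then -(q (σ i'.succ) * u) else if l = i'.succ then 1 else 0) i
    have hA : IsUnit A.det := by
      have htri : A.BlockTriangular OrderDual.toDual := fun i l hil => by
        have hil' : i < l := hil
        have hl : l ≠ 0 := (Fin.pos_iff_ne_zero.1 (lt_of_le_of_lt (Fin.zero_le i) hil'))
        cases i using Fin.cases with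
        | zero => simp [A, hl]
        | succ i' => simp [A, hl, (ne_of_gt hil')]
      rw [Matrix.det_of_isLowerTriangular A htri, Fin.prod_univ_succ]
      simp [A, Fin.succ_ne_zero]
      exact isUnit_of_dvd_one ⟨q i0, hu'.symm⟩
    let P : Matrix (Fin (r + 1)) (Fin (r + 1)) (PowerSeries k) := (1 : Matrix (Fin (r + 1)) (Fin (r + 1)) (PowerSeries k)).submatrix σ id
    have hP : IsUnit P.det := by
      rw [Matrix.det_permute, Matrix.det_one, mul_one]
      exact ((Equiv.Perm.sign σ).isUnit).map (Int.castRingHom (PowerSeries k))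
    set M1 := A * (P * M) with hM1
    have hPM : P * M = M.submatrix σ id := by
      ext i j
      simp [P, Matrix.mul_apply, Matrix.one_apply]
    have h00 : M1 0 0 = X ^ e0 := by
      simp only [hM1, hPM, Matrix.mul_apply, Fin.sum_univ_succ]
      simp [A, σ, Fin.succ_ne_zero, hq i0]
      linear_combination (X : (PowerSeries k)) ^ e0 * hu'
    have hs0 : ∀ i : Fin r, M1 i.succ 0 = 0 := fun i => by
      simp only [hM1, hPM, Matrix.mul_apply, Fin.sum_univ_succ]
      rw [Finset.sum_eq_single i (fun b _ hb => by simp [A, Fin.succ_ne_zero, hb]) (by simp)]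
      simp [A, Fin.succ_ne_zero, σ, hq i0, hq (Equiv.swap 0 i0 i.succ)]
      linear_combination -((q (Equiv.swap 0 i0 i.succ)) * (X : (PowerSeries k)) ^ e0) * hu'
    have hdet1 : M1.det ≠ 0 := by
      rw [hM1, Matrix.det_mul, Matrix.det_mul]
      exact mul_ne_zero hA.ne_zero (mul_ne_zero hP.ne_zero hM)
    have hsub : (M1.submatrix Fin.succ Fin.succ).det ≠ 0 := by
      rw [Matrix.det_succ_column_zero, Fin.sum_univ_succ] at hdet1
      simp [hs0] at hdet1
      exact hdet1.2
    obtain ⟨N', e', hN', hd', hl'⟩ := ih _ hsub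
    let N2 : Matrix (Fin (r + 1)) (Fin (r + 1)) (PowerSeries k) := Matrix.of fun i l =>
      Fin.cases (if l = 0 then 1 else 0) (fun i' => Fin.cases 0 (fun l' => N' i' l') l) i
    have hN2 : IsUnit N2.det := by
      rw [Matrix.det_succ_column_zero, Fin.sum_univ_succ]
      have : N2.submatrix Fin.succ Fin.succ = N' := by ext i l; simp [N2]
      simp [N2, Fin.succ_ne_zero] at this ⊢
      rw [this]
      exact hN'
    refine ⟨N2 * A * P, Fin.cases e0 e', by
      rw [Matrix.det_mul, Matrix.det_mul]; exact (hN2.mul hA).mul hP, ?_, ?_⟩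
    all_goals rw [Matrix.mul_assoc, Matrix.mul_assoc, ← hM1]
    · intro i
      cases i using Fin.cases with
      | zero => simp [Matrix.mul_apply, Fin.sum_univ_succ, N2, Fin.succ_ne_zero, h00]
      | succ i' =>
        have := hd' i'
        simp [Matrix.mul_apply, Fin.sum_univ_succ, N2] at this ⊢
        exact this
    · intro i j hji
      cases i using Fin.cases with
      | zero => exact absurd hji (Fin.not_lt_zero j)
      | succ i' =>
        cases j using Fin.cases with
        | zero => simp [Matrix.mul_apply, Fin.sum_univ_succ, N2, hs0]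
        | succ j' =>
          have := hl' i' j' (Fin.succ_lt_succ_iff.1 hji)
          simp [Matrix.mul_apply, Fin.sum_univ_succ, N2] at this ⊢
          exact this

/-- upper unipotent with off-diagonal entries in `S` -/
def Unip {n : ℕ} (S : Set (PowerSeries k)) (Y : Matrix (Fin n) (Fin n) (PowerSeries k)) : Prop :=
  (∀ i, Y i i = 1) ∧ (∀ i j, j < i → Y i j = 0) ∧ ∀ i j, i < j → Y i j ∈ S

theorem Unip.isUnit_det {n : ℕ} {S : Set (PowerSeries k)} {Y : Matrix (Fin n) (Fin n) (PowerSeries k)} (h : Unip S Y) : IsUnit Y.det := by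
  rw [Matrix.det_of_isUpperTriangular (fun i j hij => h.2.1 i j hij)]
  simp [h.1]

variable (S : NonUnitalSubring (PowerSeries k)) (D : ℕ → ℕ → Prop)
  (hsolve : ∀ (e : ℕ) (f : (PowerSeries k)), ∃ c ∈ S, ∀ n, D e n → coeff n (f + X ^ e * c) = 0)

include hsolve in
theorem exists_column : ∀ (n : ℕ) (H : Matrix (Fin n) (Fin n) (PowerSeries k)) (e : Fin n → ℕ),
    (∀ i, H i i = X ^ e i) → (∀ i j, j < i → H i j = 0) → ∀ v : Fin n → (PowerSeries k),
    ∃ c : Fin n → (PowerSeries k), (∀ i, c i ∈ S) ∧ ∀ i m, D (e i) m → coeff m (v i + (H *ᵥ c) i) = 0 := by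
  intro n
  induction n with
  | zero => exact fun _ _ _ _ _ => ⟨Fin.elim0, fun i => i.elim0, fun i => i.elim0⟩
  | succ n ih =>
    intro H e hd hl v
    obtain ⟨cl, hcl, hcl'⟩ := hsolve (e (Fin.last n)) (v (Fin.last n))
    obtain ⟨c, hc, hc'⟩ := ih (H.submatrix Fin.castSucc Fin.castSucc) (fun i => e i.castSucc)
      (fun i => hd _) (fun i j h => hl _ _ (Fin.castSucc_lt_castSucc_iff.2 h))
      (fun i => v i.castSucc + H i.castSucc (Fin.last n) * cl)
    refine ⟨Fin.snoc c cl, fun i => ?_, fun i m hm => ?_⟩
    · cases i using Fin.lastCases with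
      | last => simpa using hcl
      | cast i => simpa using hc i
    · cases i using Fin.lastCases with
      | last =>
        have h0 : ∀ l : Fin n, H (Fin.last n) l.castSucc = 0 := fun l => hl _ _ (Fin.castSucc_lt_last l)
        simpa [Matrix.mulVec, dotProduct, Fin.sum_univ_castSucc, h0, hd] using hcl' m hm
      | cast i =>
        have := hc' i m hm
        simp only [Matrix.mulVec, dotProduct, Matrix.submatrix_apply] at this
        simp only [Matrix.mulVec, dotProduct, Fin.sum_univ_castSucc, Fin.snoc_castSucc, Fin.snoc_last]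
        convert this using 2
        ring

theorem exists_truncate (E : ℕ) (f : (PowerSeries k)) : ∃ a : (PowerSeries k), ∀ n,
    coeff n (f + a * X ^ E) = if E ≤ n then 0 else coeff n f := by
  refine ⟨-(PowerSeries.mk fun m => coeff (m + E) f), fun n => ?_⟩
  rw [map_add, PowerSeries.coeff_mul_X_pow']
  split_ifs with h
  · simp [Nat.sub_add_cancel h]
  · simp

include hsolve in
theorem exists_reduced : ∀ (n : ℕ) (H : Matrix (Fin n) (Fin n) (PowerSeries k)) (e : Fin n → ℕ),
    (∀ i, H i i = X ^ e i) → (∀ i j, j < i → H i j = 0) →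
    ∃ N P : Matrix (Fin n) (Fin n) (PowerSeries k), Unip Set.univ N ∧ Unip (S : Set (PowerSeries k)) P ∧
      (∀ i, (N * H * P) i i = X ^ e i) ∧ (∀ i j, j < i → (N * H * P) i j = 0) ∧
      ∀ i j, i < j → ∀ m, (e j ≤ m ∨ D (e i) m) → coeff m ((N * H * P) i j) = 0 := by
  intro n
  induction n with
  | zero =>
    exact fun H e _ _ => ⟨1, 1, ⟨fun i => i.elim0, fun i => i.elim0, fun i => i.elim0⟩,
      ⟨fun i => i.elim0, fun i => i.elim0, fun i => i.elim0⟩, fun i => i.elim0, fun i => i.elim0, fun i => i.elim0⟩
  | succ n ih =>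
    intro H e hd hl
    obtain ⟨N', P', hN, hP, hd', hl', hred⟩ := ih (H.submatrix Fin.castSucc Fin.castSucc) (fun i => e i.castSucc)
      (fun i => hd _) (fun i j h => hl _ _ (Fin.castSucc_lt_castSucc_iff.2 h))
    set H'' := N' * H.submatrix Fin.castSucc Fin.castSucc * P' with hH''
    let v : Fin n → (PowerSeries k) := N' *ᵥ fun i => H i.castSucc (Fin.last n)
    obtain ⟨c, hc, hc'⟩ := exists_column S D hsolve n H'' (fun i => e i.castSucc) hd' hl' v
    let y : Fin n → (PowerSeries k) := P' *ᵥ c
    have hy : ∀ i, y i ∈ S := fun i => show (∑ l, P' i l * c l) ∈ S from sum_mem fun l _ => by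
      rcases lt_trichotomy i l with h | rfl | h
      · exact mul_mem (hP.2.2 i l h) (hc l)
      · rw [hP.1]; simpa using hc i
      · rw [hP.2.1 i l h, zero_mul]; exact zero_mem S
    choose a ha using fun i => exists_truncate (e (Fin.last n)) (v i + (H'' *ᵥ c) i)
    let N : Matrix (Fin (n + 1)) (Fin (n + 1)) (PowerSeries k) := Matrix.of fun i =>
      Fin.lastCases (Fin.snoc (0 : Fin n → (PowerSeries k)) 1) (fun i' => Fin.snoc (N' i') (a i')) i
    let P : Matrix (Fin (n + 1)) (Fin (n + 1)) (PowerSeries k) := Matrix.of fun i =>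
      Fin.lastCases (Fin.snoc (0 : Fin n → (PowerSeries k)) 1) (fun i' => Fin.snoc (P' i') (y i')) i
    have hunip : ∀ (T : Set (PowerSeries k)) (Y : Matrix (Fin n) (Fin n) (PowerSeries k)) (z : Fin n → (PowerSeries k)), Unip T Y → (∀ i, z i ∈ T) →
        Unip T (Matrix.of fun i => Fin.lastCases (Fin.snoc (0 : Fin n → (PowerSeries k)) 1) (fun i' => Fin.snoc (Y i') (z i')) i :
          Matrix (Fin (n + 1)) (Fin (n + 1)) (PowerSeries k)) := by
      intro T Y z hY hz
      refine ⟨fun i => ?_, fun i j hji => ?_, fun i j hij => ?_⟩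
      · cases i using Fin.lastCases with
        | last => simp
        | cast i => simpa using hY.1 i
      · cases i using Fin.lastCases with
        | last =>
          cases j using Fin.lastCases with
          | last => exact absurd hji (lt_irrefl _)
          | cast j => simp
        | cast i =>
          cases j using Fin.lastCases with
          | last => exact absurd hji (not_lt.2 (Fin.le_last _))
          | cast j => simpa using hY.2.1 i j (Fin.castSucc_lt_castSucc_iff.1 hji)
      · cases i using Fin.lastCases with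
        | last => exact absurd hij (not_lt.2 (Fin.le_last _))
        | cast i =>
          cases j using Fin.lastCases with
          | last => simpa using hz i
          | cast j => simpa using hY.2.2 i j (Fin.castSucc_lt_castSucc_iff.1 hij)
    have h0 : ∀ l : Fin n, H (Fin.last n) l.castSucc = 0 := fun l => hl _ _ (Fin.castSucc_lt_last l)
    have hcc : ∀ i j : Fin n, (N * H * P) i.castSucc j.castSucc = H'' i j := fun i j => by
      simp [hH'', N, P, Matrix.mul_apply, Fin.sum_univ_castSucc, h0]
    have hlc : ∀ j : Fin n, (N * H * P) (Fin.last n) j.castSucc = 0 := fun j => by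
      simp [N, P, Matrix.mul_apply, Fin.sum_univ_castSucc, h0]
    have hll : (N * H * P) (Fin.last n) (Fin.last n) = X ^ e (Fin.last n) := by
      simp [N, P, Matrix.mul_apply, Fin.sum_univ_castSucc, h0, hd]
    have hcl : ∀ i : Fin n, (N * H * P) i.castSucc (Fin.last n) =
        v i + (H'' *ᵥ c) i + a i * X ^ e (Fin.last n) := fun i => by
      have hyc : (N' * H.submatrix Fin.castSucc Fin.castSucc) *ᵥ y = H'' *ᵥ c := by
        rw [hH'', show y = P' *ᵥ c from rfl, Matrix.mulVec_mulVec]
      rw [← congrFun hyc i]
      simp [N, P, v, Matrix.mul_apply, Matrix.mulVec, dotProduct, Fin.sum_univ_castSucc, h0, hd]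
      ring
    refine ⟨N, P, hunip _ _ _ hN (fun _ => trivial), hunip _ _ _ hP hy, fun i => ?_, fun i j hji => ?_,
      fun i j hij m hm => ?_⟩
    · cases i using Fin.lastCases with
      | last => exact hll
      | cast i => rw [hcc]; exact hd' i
    · cases j using Fin.lastCases with
      | last => exact absurd hji (not_lt.2 (Fin.le_last _))
      | cast j =>
        cases i using Fin.lastCases with
        | last => exact hlc j
        | cast i => rw [hcc]; exact hl' i j (Fin.castSucc_lt_castSucc_iff.1 hji)
    · cases i using Fin.lastCases with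
      | last => exact absurd hij (not_lt.2 (Fin.le_last _))
      | cast i =>
        cases j using Fin.lastCases with
        | last =>
          rw [hcl, ha]
          split_ifs with h
          · rfl
          · exact hc' i m (hm.resolve_left h)
        | cast j => rw [hcc]; exact hred i j (Fin.castSucc_lt_castSucc_iff.1 hij) m hm

/-- Uniqueness of reduced forms. -/
theorem reduced_unique {r : ℕ} (H H' N : Matrix (Fin r) (Fin r) (PowerSeries k)) (hN : IsUnit N.det) (hNH : N * H = H')
    (e e' : Fin r → ℕ) (hd : ∀ i, H i i = X ^ e i) (hl : ∀ i j, j < i → H i j = 0)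
    (hr : ∀ i j, i < j → ∀ m, e j ≤ m → coeff m (H i j) = 0)
    (hd' : ∀ i, H' i i = X ^ e' i) (hl' : ∀ i j, j < i → H' i j = 0)
    (hr' : ∀ i j, i < j → ∀ m, e' j ≤ m → coeff m (H' i j) = 0) : H = H' := by
  have hent : ∀ i j, H' i j = ∑ l, N i l * H l j := fun i j => by rw [← hNH, Matrix.mul_apply]
  have hlow : ∀ j i, j < i → N i j = 0 := by
    intro j
    induction j using WellFoundedLT.induction with
    | ind j ih =>
      intro i hji
      have h := hent i j
      rw [hl' i j hji, Finset.sum_eq_single j (fun l _ hlj => by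
        rcases lt_or_gt_of_ne hlj with h | h
        · rw [ih l h i (h.trans hji), zero_mul]
        · rw [hl l j h, mul_zero]) (by simp), hd] at h
      exact (mul_eq_zero.1 h.symm).resolve_right (pow_ne_zero _ X_ne_zero)
  have hdiag : ∀ i, N i i = 1 ∧ e i = e' i := by
    intro i
    have h := hent i i
    rw [hd', Finset.sum_eq_single i (fun l _ hli => by
      rcases lt_or_gt_of_ne hli with h | h
      · rw [hlow l i h, zero_mul]
      · rw [hl l i h, mul_zero]) (by simp), hd] at h
    have hu : IsUnit (N i i) := by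
      rw [Matrix.det_of_isUpperTriangular (fun a b hab => hlow b a hab)] at hN
      exact isUnit_of_dvd_unit (Finset.dvd_prod_of_mem (fun l => N l l) (Finset.mem_univ i)) hN
    have ho := congrArg PowerSeries.order h
    rw [PowerSeries.order_mul, PowerSeries.order_X_pow, PowerSeries.order_X_pow,
      PowerSeries.order_zero_of_unit hu, zero_add] at ho
    have he : e i = e' i := by exact_mod_cast ho.symm
    refine ⟨mul_right_cancel₀ (pow_ne_zero (e i) X_ne_zero) ?_, he⟩
    rw [one_mul, ← h, he]
  have hoff : ∀ j i, i < j → N i j = 0 := by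
    intro j
    induction j using WellFoundedLT.induction with
    | ind j ih =>
      intro i hij
      have h := hent i j
      rw [← Finset.add_sum_erase _ _ (Finset.mem_univ i), (hdiag i).1, one_mul,
        Finset.sum_eq_single j (fun l hl0 hlj => by
          rcases lt_or_gt_of_ne hlj with h | h
          · rcases lt_or_gt_of_ne (Finset.mem_erase.1 hl0).1 with h' | h'
            · rw [hlow l i h', zero_mul]
            · rw [ih l h i h', zero_mul]
          · rw [hl l j h, mul_zero]) (fun hn => absurd (Finset.mem_erase.2 ⟨hij.ne', Finset.mem_univ _⟩) hn),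
        hd] at h
      ext m
      have hc := congrArg (coeff (m + e j)) h
      rw [hr' i j hij _ (by rw [(hdiag j).2]; omega), map_add, hr i j hij _ (by omega), zero_add,
        PowerSeries.coeff_mul_X_pow] at hc
      rw [← hc, map_zero]
  have h1 : N = 1 := Matrix.ext fun i j => by
    rcases lt_trichotomy i j with h | rfl | h
    · rw [hoff j i h, Matrix.one_apply_ne h.ne]
    · rw [(hdiag i).1, Matrix.one_apply_eq]
    · rw [hlow j i h, Matrix.one_apply_ne h.ne']
  rw [← hNH, h1, Matrix.one_mul]

end Groth.Agent.HermiteLib
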